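import Mathlib.RingTheory.Unramified.Field
import Mathlib.RingTheory.Etale.Field
import Mathlib.RingTheory.SimpleModule.Basic
import Mathlib.RingTheory.Artinian.Module
import Mathlib.RingTheory.RingHom.Finite
import Mathlib.RingTheory.Adjoin.PowerBasis
import Mathlib.RingTheory.Spectrum.Prime.Polynomial
import Mathlib.Algebra.Module.LinearMap.Polynomial
import Mathlib.LinearAlgebra.Eigenspace.Charpoly
import Mathlib.LinearAlgebra.Eigenspace.Minpoly
import Mathlib.LinearAlgebra.Matrix.Charpoly.Minpoly
import Mathlib.FieldTheory.PrimitiveElement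
import Mathlib.FieldTheory.IsAlgClosed.AlgebraicClosure
import Mathlib.Topology.Algebra.MvPolynomial

/-!
Approximating a generator of a completion of a finite separable extension by elements of the extension,
with control of the characteristic polynomial.
-/

set_option autoImplicit false
open Polynomial TensorProduct

namespace Groth.Agent.ValEtCompLib

section alg
variable {K L : Type*} [Field K] [Field L] [Algebra K L] [FiniteDimensional K L]

theorem aeval_charpoly_lmul (θ : L) : aeval θ (Algebra.lmul K L θ).charpoly = 0 := by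
  have h : Algebra.lmul K L (aeval θ (Algebra.lmul K L θ).charpoly) = 0 := by
    rw [← aeval_algHom_apply]
    exact LinearMap.aeval_self_charpoly _
  simpa using congrArg (fun f : Module.End K L => f 1) h

theorem adjoin_eq_top_of_derivative_ne_zero (θ : L)
    (h : aeval θ (derivative (Algebra.lmul K L θ).charpoly) ≠ 0) : Algebra.adjoin K {θ} = ⊤ := by
  have hint : IsIntegral K θ := IsIntegral.of_finite K θ
  obtain ⟨w, hw⟩ := minpoly.dvd K θ (aeval_charpoly_lmul θ)
  have hwθ : aeval θ w ≠ 0 := by
    intro h0
    apply h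
    rw [hw, derivative_mul, map_add, map_mul, map_mul, h0, minpoly.aeval, mul_zero, zero_mul, add_zero]
  have hwdeg : w.natDegree = 0 := by
    by_contra hd
    have hd' : (w.map (algebraMap K (AlgebraicClosure K))).degree ≠ 0 := by
      rw [degree_map]
      exact fun h' => hd (natDegree_eq_zero_iff_degree_le_zero.2 h'.le)
    obtain ⟨μ, hμ⟩ := IsAlgClosed.exists_root _ hd'
    have hroot : ((Algebra.lmul (AlgebraicClosure K) (AlgebraicClosure K ⊗[K] L)
        ((1 : AlgebraicClosure K) ⊗ₜ[K] θ))).charpoly.IsRoot μ := by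
      rw [← Algebra.baseChange_lmul, LinearMap.charpoly_baseChange, hw, Polynomial.map_mul]
      exact root_mul_left_of_isRoot _ hμ
    rw [← Module.End.hasEigenvalue_iff_isRoot_charpoly, Module.End.hasEigenvalue_iff_isRoot] at hroot
    have hq : aeval μ (minpoly K θ) = 0 := by
      have h1 : aeval (Algebra.lmul (AlgebraicClosure K) (AlgebraicClosure K ⊗[K] L)
          ((1 : AlgebraicClosure K) ⊗ₜ[K] θ)) ((minpoly K θ).map (algebraMap K (AlgebraicClosure K))) = 0 := by
        rw [aeval_algHom_apply, aeval_map_algebraMap,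
          show ((1 : AlgebraicClosure K) ⊗ₜ[K] θ) = Algebra.TensorProduct.includeRight θ from rfl,
          aeval_algHom_apply, minpoly.aeval, map_zero, map_zero]
      have h2 := IsRoot.dvd hroot (minpoly.dvd _ _ h1)
      rwa [IsRoot.def, eval_map, ← aeval_def] at h2
    have hwq : minpoly K θ ∣ w := by
      have he : minpoly K θ = minpoly K μ := minpoly.eq_of_irreducible_of_monic (minpoly.irreducible hint)
        hq (minpoly.monic hint)
      rw [he]
      apply minpoly.dvd
      rwa [IsRoot.def, eval_map, ← aeval_def] at hμ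
    obtain ⟨z, rfl⟩ := hwq
    exact hwθ (by rw [map_mul, minpoly.aeval, zero_mul])
  have hdeg : (minpoly K θ).natDegree = Module.finrank K L := by
    rw [← LinearMap.charpoly_natDegree (Algebra.lmul K L θ), hw, natDegree_mul (minpoly.ne_zero hint)
      (fun h0 => hwθ (by rw [h0, map_zero])), hwdeg, add_zero]
  have := (Field.primitive_element_iff_minpoly_natDegree_eq K θ).2 hdeg
  rw [← IntermediateField.adjoin_simple_toSubalgebra_of_isAlgebraic hint.isAlgebraic, this,
    IntermediateField.top_toSubalgebra]

end alg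

section approx
variable {K L F E : Type*} [Field K] [Field L] [Field F] [Field E] [Algebra K L] [Algebra K F]
  [Algebra K E] [Algebra L E] [Algebra F E] [IsScalarTower K F E] [IsScalarTower K L E]
  [TopologicalSpace F] [IsTopologicalRing F] [TopologicalSpace E] [IsTopologicalRing E]
  [FiniteDimensional K L] [Algebra.IsSeparable K L]

theorem exists_approx (hden : DenseRange (algebraMap K F)) (hcont : Continuous (algebraMap F E))
    (hsurj : Function.Surjective (Algebra.TensorProduct.lift (Algebra.ofId F E) (IsScalarTower.toAlgHom K L E)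
      fun x y => Commute.all _ _))
    (t : E) (htop : Algebra.adjoin F {t} = ⊤) (U : Set ((ℕ → F) × E)) (hU : IsOpen U)
    (hmem : ∀ r : ℕ, (minpoly F t).natDegree + r = Module.finrank K L →
      ((fun j => (minpoly F t * X ^ r).coeff j), t) ∈ U) :
    ∃ θ : L, ((fun j => algebraMap K F ((Algebra.lmul K L θ).charpoly.coeff j)), algebraMap L E θ) ∈ U := by
  classical
  let π : F ⊗[K] L →ₐ[F] E := Algebra.TensorProduct.lift (Algebra.ofId F E) (IsScalarTower.toAlgHom K L E)
    fun x y => Commute.all _ _
  haveI : FiniteDimensional F E := Module.Finite.of_surjective π.toLinearMap hsurj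
  haveI : Algebra.FormallyEtale K L := Algebra.FormallyEtale.of_isSeparable K L
  haveI : IsArtinianRing (F ⊗[K] L) := IsArtinianRing.of_finite F _
  haveI : IsReduced (F ⊗[K] L) := Algebra.FormallyUnramified.isReduced_of_field F (F ⊗[K] L)
  haveI := IsArtinianRing.isSemisimpleRing_of_isReduced (F ⊗[K] L)
  obtain ⟨e, he, hker⟩ := IsSemisimpleRing.ideal_eq_span_idempotent (RingHom.ker π)
  have hπe : π e = 0 := by
    rw [← RingHom.mem_ker, hker]; exact Ideal.mem_span_singleton_self e
  have hkere : ∀ x, π x = 0 → x * e = x := fun x hx => by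
    rw [← RingHom.mem_ker, hker, Ideal.mem_span_singleton'] at hx
    obtain ⟨z, rfl⟩ := hx
    rw [mul_assoc, he.eq]
  obtain ⟨a, ha⟩ := hsurj t
  let a₀ : F ⊗[K] L := a * (1 - e)
  have ha₀ : π a₀ = t := by
    show π (a * (1 - e)) = t
    rw [map_mul, map_sub, map_one, hπe, sub_zero, mul_one]
    exact ha
  -- the decomposition
  let Z : Submodule F (F ⊗[K] L) := LinearMap.ker π.toLinearMap
  let pr : F ⊗[K] L →ₗ[F] Z := LinearMap.codRestrict Z (LinearMap.mulRight F e) fun x => by
    show π (x * e) = 0
    rw [map_mul, hπe, mul_zero]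
  let Ψ : (F ⊗[K] L) ≃ₗ[F] E × Z := LinearEquiv.ofBijective (π.toLinearMap.prod pr) (by
    constructor
    · rw [injective_iff_map_eq_zero]
      intro x hx
      have h1 : π x = 0 := congrArg Prod.fst hx
      have h2 : x * e = 0 := congrArg (fun p : E × Z => (p.2 : F ⊗[K] L)) hx
      rw [← hkere x h1, h2]
    · rintro ⟨s, k⟩
      obtain ⟨x₀, hx₀⟩ := hsurj s
      have hk : π (k : F ⊗[K] L) = 0 := k.2
      refine ⟨x₀ * (1 - e) + k, Prod.ext ?_ (Subtype.ext ?_)⟩
      · show π (x₀ * (1 - e) + k) = s
        rw [map_add, map_mul, map_sub, map_one, hπe, sub_zero, mul_one, hk, add_zero]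
        exact hx₀
      · show (x₀ * (1 - e) + k) * e = (k : F ⊗[K] L)
        rw [add_mul, mul_assoc, sub_mul, one_mul, he.eq, sub_self, mul_zero, zero_add, hkere _ hk])
  have hconj : Ψ.conj (Algebra.lmul F (F ⊗[K] L) a₀) = (Algebra.lmul F E t).prodMap (0 : Z →ₗ[F] Z) := by
    apply LinearMap.ext
    intro p
    obtain ⟨x, rfl⟩ := Ψ.surjective p
    rw [LinearEquiv.conj_apply_apply, LinearEquiv.symm_apply_apply]
    refine Prod.ext ?_ (Subtype.ext ?_)
    · show π (a₀ * x) = t * π x
      rw [map_mul, ha₀]
    · show (a * (1 - e) * x) * e = (0 : F ⊗[K] L)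
      rw [mul_assoc a, mul_assoc a, mul_right_comm (1 - e), sub_mul, one_mul, he.eq, sub_self, zero_mul, mul_zero]
  have hint : IsIntegral F t := IsIntegral.of_finite F t
  let pb : PowerBasis F E := (Algebra.adjoin.powerBasis hint).map
    ((Subalgebra.equivOfEq _ _ htop).trans Subalgebra.topEquiv)
  have hgen : pb.gen = t := rfl
  have hcp : (Algebra.lmul F E t).charpoly = minpoly F t := by
    rw [← hgen, ← charpoly_leftMulMatrix pb, Algebra.leftMulMatrix_apply]
    exact (LinearMap.charpoly_toMatrix _ _).symm
  have hχ : (Algebra.lmul F (F ⊗[K] L) a₀).charpoly = minpoly F t * X ^ Module.finrank F Z := by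
    rw [← LinearEquiv.charpoly_conj Ψ, hconj, LinearMap.charpoly_prodMap, hcp, LinearMap.charpoly_zero]
  have hr : (minpoly F t).natDegree + Module.finrank F Z = Module.finrank K L := by
    have := congrArg natDegree hχ
    rw [LinearMap.charpoly_natDegree, Module.finrank_baseChange, natDegree_mul (minpoly.ne_zero hint)
      (pow_ne_zero _ X_ne_zero), natDegree_X_pow] at this
    exact this.symm
  -- the continuous parametrisation
  let b := Module.finBasis K L
  let bA := Algebra.TensorProduct.basis F b
  let P := LinearMap.polyCharpoly (Algebra.lmul F (F ⊗[K] L)).toLinearMap bA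
  let Φ : (Fin (Module.finrank K L) → F) → (ℕ → F) × E := fun c =>
    (fun j => MvPolynomial.eval c (P.coeff j), ∑ i, algebraMap F E (c i) * π (bA i))
  have hΦc : Continuous Φ := Continuous.prodMk (continuous_pi fun j => MvPolynomial.continuous_eval _)
    (continuous_finset_sum _ fun i _ => ((hcont.comp (continuous_apply i)).mul continuous_const))
  have hΦ : ∀ x, Φ (fun i => bA.repr x i) =
      (fun j => (Algebra.lmul F (F ⊗[K] L) x).charpoly.coeff j, π x) := by
    intro x
    refine Prod.ext (funext fun j => LinearMap.polyCharpoly_coeff_eval _ bA x j) ?_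
    show ∑ i, algebraMap F E (bA.repr x i) * π (bA i) = π x
    conv_rhs => rw [← bA.sum_repr x, map_sum]
    exact Finset.sum_congr rfl fun i _ => by rw [map_smul, Algebra.smul_def]
  have hne : (Φ ⁻¹' U).Nonempty := ⟨fun i => bA.repr a₀ i, by
    rw [Set.mem_preimage, hΦ, hχ, ha₀]; exact hmem _ hr⟩
  obtain ⟨d, hd⟩ := (DenseRange.piMap fun _ : Fin (Module.finrank K L) => hden).exists_mem_open
    (hU.preimage hΦc) hne
  refine ⟨b.equivFun.symm d, ?_⟩
  have hrepr : (fun i => bA.repr ((1 : F) ⊗ₜ[K] b.equivFun.symm d) i) =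
      Pi.map (fun _ => algebraMap K F) d := by
    funext i
    rw [Algebra.TensorProduct.basis_repr_tmul]
    rw [one_smul, Finsupp.mapRange_apply, ← Module.Basis.equivFun_apply, LinearEquiv.apply_symm_apply]
    rfl
  rw [Set.mem_preimage, ← hrepr, hΦ, ← Algebra.baseChange_lmul, LinearMap.charpoly_baseChange] at hd
  convert hd using 2
  · exact funext fun j => (coeff_map _ _).symm
  · show algebraMap L E _ = π _
    rw [Algebra.TensorProduct.lift_tmul, map_one, one_mul]
    rfl

end approx

end Groth.Agent.ValEtCompLib
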