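import Mathlib.RingTheory.Unramified.LocalStructure
import Mathlib.RingTheory.Valuation.RankOne
import Mathlib.FieldTheory.PurelyInseparable.Basic
import Groth.Agent.ValEtaleLib.Etale
import Groth.Agent.S14896

/-!
Étale extensions of valuation rings of finite height are those generated by a simple root with unit derivative.
-/

set_option autoImplicit false
universe u
open Polynomial IsLocalRing

namespace Groth.Agent.ValEtCompLib

theorem arch_of_rankOne {K Γ : Type*} [Field K] [LinearOrderedCommGroupWithZero Γ] (v : Valuation K Γ)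
    [v.RankOne] (x y : K) (hx : v x ≠ 0) (hy : v y < 1) : ∃ n : ℕ, v y ^ n ≤ v x := by
  let f := Valuation.RankOne.hom v
  have hf : StrictMono f := Valuation.RankOne.strictMono v
  have hy' : f (v.restrict y) < 1 := by
    rw [← map_one f, hf.lt_iff_lt, ← map_one v.restrict, v.restrict_lt_iff, map_one]
    exact hy
  have hx' : 0 < f (v.restrict x) := by
    rw [← map_zero f, hf.lt_iff_lt, ← map_zero v.restrict, v.restrict_lt_iff, map_zero]
    exact zero_lt_iff.2 hx
  obtain ⟨n, hn⟩ := exists_pow_lt_of_lt_one hx' hy'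
  refine ⟨n, ?_⟩
  rw [← map_pow, ← map_pow, hf.lt_iff_lt, v.restrict_lt_iff, map_pow] at hn
  exact hn.le

theorem finite_primeSpectrum_of_arch {K Γ : Type*} [Field K] [LinearOrderedCommGroupWithZero Γ] (v : Valuation K Γ)
    (h : ∀ x y : K, v x ≠ 0 → v y < 1 → ∃ n : ℕ, v y ^ n ≤ v x) :
    Finite (PrimeSpectrum v.valuationSubring) := by
  have key : ∀ p : PrimeSpectrum v.valuationSubring,
      p.asIdeal = ⊥ ∨ p.asIdeal = maximalIdeal v.valuationSubring := fun p => by
    refine or_iff_not_imp_left.2 fun hp => ?_
    obtain ⟨x, hxp, hx0⟩ := Submodule.exists_mem_ne_zero_of_ne_bot hp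
    refine le_antisymm (le_maximalIdeal p.2.ne_top) fun y hy => ?_
    have hy1 : v (y : K) < 1 := by
      refine lt_of_le_of_ne y.2 fun he => ?_
      have hy0 : (y : K) ≠ 0 := by intro h0; rw [h0, map_zero] at he; exact zero_ne_one he
      exact hy (IsUnit.of_mul_eq_one (⟨(y : K)⁻¹, show v (y : K)⁻¹ ≤ 1 by rw [map_inv₀, he, inv_one]⟩)
        (Subtype.ext (mul_inv_cancel₀ hy0)))
    have hx : v (x : K) ≠ 0 := by
      rw [ne_eq, map_eq_zero]
      exact fun h0 => hx0 (Subtype.ext h0)
    obtain ⟨n, hn⟩ := h _ _ hx hy1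
    have hq : v ((y : K) ^ n / x) ≤ 1 := by
      rw [map_div₀, map_pow, div_le_one₀ (zero_lt_iff.2 hx)]
      exact hn
    have hyn : y ^ n = x * ⟨(y : K) ^ n / x, hq⟩ := Subtype.ext (by
      show (y : K) ^ n = x * ((y : K) ^ n / x)
      have hx0' : (x : K) ≠ 0 := fun h0 => hx0 (Subtype.ext h0)
      field_simp)
    exact p.2.mem_of_pow_mem n (hyn ▸ p.asIdeal.mul_mem_right _ hxp)
  classical
  refine Finite.of_injective (fun p : PrimeSpectrum v.valuationSubring =>
    (decide (p.asIdeal = ⊥) : Bool)) fun p q hpq => PrimeSpectrum.ext ?_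
  simp only [decide_eq_decide] at hpq
  rcases key p with hp | hp
  · rw [hp, hpq.1 hp]
  · rcases key q with hq | hq
    · rw [hq, hpq.2 hq]
    · rw [hp, hq]

section
variable {K L Γ₀ Γ₁ : Type u} [Field K] [Field L] [Algebra K L]
  [LinearOrderedCommGroupWithZero Γ₀] [LinearOrderedCommGroupWithZero Γ₁]
  (vK : Valuation K Γ₀) (vL : Valuation L Γ₁) [vK.HasExtension vL]

/-- A monic integral polynomial with a root in `L°` with unit derivative generating `L` gives an étale extension. -/
theorem etale_of_root [Finite (PrimeSpectrum vK.valuationSubring)] (θ : vL.valuationSubring)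
    (G : vK.valuationSubring[X]) (hG : G.Monic) (h0 : aeval θ G = 0)
    (hu : IsUnit (aeval θ (derivative G))) (htop : Algebra.adjoin K {(θ : L)} = ⊤) :
    Algebra.Etale vK.valuationSubring vL.valuationSubring := by
  let P : StandardEtalePair vK.valuationSubring :=
    ⟨G, hG, derivative G, ⟨1, 0, 1, by ring⟩⟩
  let φ : P.Ring →ₐ[vK.valuationSubring] vL.valuationSubring := P.lift θ ⟨h0, hu⟩
  letI : Algebra P.Ring vL.valuationSubring := φ.toRingHom.toAlgebra
  haveI : IsScalarTower vK.valuationSubring P.Ring vL.valuationSubring :=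
    IsScalarTower.of_algebraMap_eq fun x => (φ.commutes x).symm
  let Q : Ideal P.Ring := (maximalIdeal vL.valuationSubring).comap φ.toRingHom
  haveI : Q.IsPrime := Ideal.comap_isPrime _ _
  have hQ : Q.comap (algebraMap vK.valuationSubring P.Ring) = maximalIdeal vK.valuationSubring := by
    rw [Ideal.comap_comap, show φ.toRingHom.comp (algebraMap vK.valuationSubring P.Ring) =
      algebraMap vK.valuationSubring vL.valuationSubring from φ.comp_algebraMap]
    exact Valuation.HasExtension.maximalIdeal_comap_algebraMap_eq_maximalIdeal vK vL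
  obtain ⟨-, hC⟩ := ValEtaleLib.etale_local vK.valuationSubring P.Ring Q hQ
  have hun : ∀ y : Q.primeCompl, IsUnit (algebraMap P.Ring vL.valuationSubring y) := fun y => by
    by_contra hy
    exact y.2 hy
  let ψ : Localization.AtPrime Q →ₐ[P.Ring] vL.valuationSubring :=
    IsLocalization.liftAlgHom (M := Q.primeCompl) (f := Algebra.ofId P.Ring vL.valuationSubring) hun
  have hψ : ∀ a : vK.valuationSubring, (ψ (algebraMap vK.valuationSubring _ a) : L) = algebraMap K L a := by
    intro a
    rw [IsScalarTower.algebraMap_apply vK.valuationSubring P.Ring (Localization.AtPrime Q), AlgHom.commutes,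
      ← IsScalarTower.algebraMap_apply]
    rfl
  have hunit : ∀ w : (Localization.AtPrime Q)ˣ, vL (ψ w : L) = 1 := fun w => by
    refine le_antisymm (ψ (w : Localization.AtPrime Q)).2 ?_
    have h2 : vL (ψ w : L) * vL (ψ (w⁻¹ : (Localization.AtPrime Q)ˣ) : L) = 1 := by
      rw [← map_mul, ← MulMemClass.coe_mul, ← map_mul, Units.mul_inv, map_one, OneMemClass.coe_one, map_one]
    calc (1 : Γ₁) = _ := h2.symm
      _ ≤ vL (ψ w : L) * 1 := by gcongr; exact (ψ _).2
      _ = _ := mul_one _
  have hinj : Function.Injective ψ := by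
    rw [injective_iff_map_eq_zero]
    intro c hc
    obtain ⟨a, w, rfl⟩ := hC c
    have h1 := congrArg (fun z : vL.valuationSubring => (z : L)) hc
    simp only [map_mul, MulMemClass.coe_mul, hψ, ZeroMemClass.coe_zero] at h1
    have hw : (ψ w : L) ≠ 0 := fun h => by simpa [h] using hunit w
    have ha : (a : K) = 0 := (algebraMap K L).injective ((mul_eq_zero.1 h1).resolve_right hw |>.trans (map_zero _).symm)
    rw [show a = 0 from Subtype.ext ha, map_zero, zero_mul]
  have hsurj : Function.Surjective ψ := by
    intro y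
    have hy : (y : L) ∈ Algebra.adjoin K {(θ : L)} := by rw [htop]; exact Algebra.mem_top
    rw [Algebra.adjoin_singleton_eq_range_aeval] at hy
    obtain ⟨p, hp⟩ := hy
    obtain ⟨s, hs⟩ := IsLocalization.integerNormalization_map_to_map (nonZeroDivisors vK.valuationSubring) p
    set p0 := IsLocalization.integerNormalization (nonZeroDivisors vK.valuationSubring) p
    let c : Localization.AtPrime Q := algebraMap P.Ring _ (aeval P.X p0)
    have hc : (ψ c : L) = algebraMap K L (s : vK.valuationSubring) * y := by
      rw [AlgHom.commutes]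
      show ((φ (aeval P.X p0) : vL.valuationSubring) : L) = _
      rw [← aeval_algHom_apply, show φ P.X = θ from P.lift_X θ _,
        show ((aeval θ p0 : vL.valuationSubring) : L) = aeval (θ : L) p0 from
          (aeval_algHom_apply (IsScalarTower.toAlgHom vK.valuationSubring vL.valuationSubring L) θ p0).symm,
        ← aeval_map_algebraMap K, hs, ← hp, AlgHom.map_smul_of_tower]
      exact Algebra.smul_def _ _
    obtain ⟨b, w, hbw⟩ := hC c
    rw [hbw, map_mul, MulMemClass.coe_mul, hψ] at hc
    have hs0 : ((s : vK.valuationSubring) : K) ≠ 0 := fun h => nonZeroDivisors.ne_zero s.2 (Subtype.ext h)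
    have hle : vK (b : K) ≤ vK ((s : vK.valuationSubring) : K) := by
      rw [← Valuation.HasExtension.val_map_le_iff vK vL]
      have := congrArg vL hc
      rw [map_mul, map_mul, hunit, mul_one] at this
      rw [this]
      exact mul_le_of_le_one_right' y.2
    have hq : vK ((b : K) / (s : vK.valuationSubring)) ≤ 1 := by
      rw [map_div₀, div_le_one₀ (zero_lt_iff.2 (by simpa using hs0))]
      exact hle
    refine ⟨algebraMap vK.valuationSubring _ ⟨_, hq⟩ * w, Subtype.ext ?_⟩
    rw [map_mul, MulMemClass.coe_mul, hψ]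
    show algebraMap K L ((b : K) / (s : vK.valuationSubring)) * (ψ w : L) = y
    have hs1 : algebraMap K L ((s : vK.valuationSubring) : K) ≠ 0 := by simpa using hs0
    rw [map_div₀, div_mul_eq_mul_div, hc, mul_div_cancel_left₀ _ hs1]
  haveI : IsLocalization.AtPrime vL.valuationSubring Q :=
    IsLocalization.isLocalization_of_algEquiv Q.primeCompl (AlgEquiv.ofBijective ψ ⟨hinj, hsurj⟩)
  haveI : FiniteDimensional K L := by
    have hfg : (Algebra.adjoin K {(θ : L)}).toSubmodule.FG := by
      refine IsIntegral.fg_adjoin_singleton ⟨G.map (algebraMap _ K), hG.map _, ?_⟩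
      rw [eval₂_map, ← IsScalarTower.algebraMap_eq]
      show aeval (θ : L) G = 0
      rw [show aeval (θ : L) G = algebraMap vL.valuationSubring L (aeval θ G) from
        aeval_algHom_apply (IsScalarTower.toAlgHom vK.valuationSubring vL.valuationSubring L) θ G, h0, map_zero]
    rw [htop, Algebra.top_toSubmodule] at hfg
    exact ⟨hfg⟩
  exact Groth.Agent.S14896.result vK vL P.Ring Q

/-- Conversely an étale extension of valuation rings is generated by such a root. -/
theorem exists_root_of_etale [Algebra.Etale vK.valuationSubring vL.valuationSubring] :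
    ∃ (θ : vL.valuationSubring) (G : vK.valuationSubring[X]), G.Monic ∧ aeval θ G = 0 ∧
      IsUnit (aeval θ (derivative G)) ∧ Algebra.adjoin K {(θ : L)} = ⊤ := by
  obtain ⟨f, hf, hstd⟩ := Algebra.IsEtaleAt.exists_isStandardEtale (R := vK.valuationSubring)
    (maximalIdeal vL.valuationSubring)
  have hfu : IsUnit f := notMem_maximalIdeal.1 hf
  haveI : Algebra.IsStandardEtale vK.valuationSubring vL.valuationSubring :=
    Algebra.IsStandardEtale.of_equiv
      ((IsLocalization.atUnit vL.valuationSubring (Localization.Away f) f hfu).symm.restrictScalars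
        vK.valuationSubring)
  obtain ⟨P⟩ := Algebra.IsStandardEtale.nonempty_standardEtalePresentation
    (R := vK.valuationSubring) (S := vL.valuationSubring)
  refine ⟨P.x, P.f, P.monic_f, P.hasMap.1, P.hasMap.isUnit_derivative_f, ?_⟩
  let S := Algebra.adjoin K {((P.x : vL.valuationSubring) : L)}
  have hae : ∀ q : vK.valuationSubring[X],
      ((aeval P.x q : vL.valuationSubring) : L) = aeval ((P.x : vL.valuationSubring) : L) q := fun q =>
    (aeval_algHom_apply (IsScalarTower.toAlgHom vK.valuationSubring vL.valuationSubring L) P.x q).symm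
  have hmem : ∀ q : vK.valuationSubring[X], ((aeval P.x q : vL.valuationSubring) : L) ∈ S := fun q => by
    rw [hae, ← aeval_map_algebraMap K]
    exact aeval_mem_adjoin_singleton _ _
  have halg : IsIntegral K ((P.x : vL.valuationSubring) : L) := by
    refine ⟨P.f.map (algebraMap _ K), P.monic_f.map _, ?_⟩
    rw [eval₂_map, ← IsScalarTower.algebraMap_eq]
    show aeval ((P.x : vL.valuationSubring) : L) P.f = 0
    rw [← hae, P.hasMap.1]
    rfl
  have hfield : IsField S := by
    haveI : FiniteDimensional K S := Module.Finite.iff_fg.2 halg.fg_adjoin_singleton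
    exact isField_of_isIntegral_of_isField' (Field.toIsField K)
  have hinv : ∀ a ∈ S, a⁻¹ ∈ S := fun a ha => by
    rcases eq_or_ne a 0 with rfl | h0
    · simp
    · obtain ⟨b, hb⟩ := hfield.mul_inv_cancel (show (⟨a, ha⟩ : S) ≠ 0 from fun h => h0 congr(($h).1))
      have hb' : a * (b : L) = 1 := congr(($hb).1)
      rw [← eq_inv_of_mul_eq_one_right hb']
      exact b.2
  have hint : ∀ y : vL.valuationSubring, (y : L) ∈ S := fun y => by
    obtain ⟨p, n, h⟩ := P.exists_mul_aeval_x_g_pow_eq_aeval_x y
    have hg : ((aeval P.x P.g : vL.valuationSubring) : L) ≠ 0 := fun h0 =>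
      P.hasMap.2.ne_zero (Subtype.ext h0)
    have h' := congrArg (fun z : vL.valuationSubring => (z : L)) h
    simp only [MulMemClass.coe_mul, SubmonoidClass.coe_pow] at h'
    rw [(eq_mul_inv_iff_mul_eq₀ (pow_ne_zero n hg)).2 h']
    exact S.mul_mem (hmem p) (hinv _ (S.pow_mem (hmem _) n))
  refine eq_top_iff.2 fun y _ => ?_
  rcases Valuation.val_le_one_or_val_inv_le_one vL y with h | h
  · exact hint ⟨y, h⟩
  · simpa using hinv _ (hint ⟨y⁻¹, h⟩)

/-- A simple root generating `L` makes it separable. -/
theorem isSeparable_of_root {K L : Type*} [Field K] [Field L] [Algebra K L] (θ : L) (q : K[X]) (hq : q.Monic)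
    (h0 : aeval θ q = 0) (h1 : aeval θ (derivative q) ≠ 0) (htop : Algebra.adjoin K {θ} = ⊤) :
    Algebra.IsSeparable K L := by
  have hint : IsIntegral K θ := ⟨q, hq, h0⟩
  have hsep : IsSeparable K θ := by
    show (minpoly K θ).Separable
    rw [separable_iff_derivative_ne_zero (minpoly.irreducible hint)]
    intro hd
    obtain ⟨r, hr⟩ := minpoly.dvd K θ h0
    apply h1
    rw [hr, derivative_mul, hd, zero_mul, zero_add, map_mul, minpoly.aeval, zero_mul]
  have htop' : IntermediateField.adjoin K {θ} = ⊤ := by
    rw [eq_top_iff]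
    intro x _
    exact IntermediateField.algebra_adjoin_le_adjoin K _ (htop ▸ Algebra.mem_top : x ∈ Algebra.adjoin K {θ})
  have := (IntermediateField.isSeparable_adjoin_simple_iff_isSeparable K L (x := θ)).2 hsep
  rw [htop'] at this
  exact Algebra.IsSeparable.of_algHom K (⊤ : IntermediateField K L)
    (IntermediateField.topEquiv.symm.toAlgHom)

end

end Groth.Agent.ValEtCompLib
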