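import Mathlib.Topology.Algebra.Valued.NormedValued
import Mathlib.Topology.Algebra.Module.FiniteDimension
import Mathlib.RingTheory.Valuation.Extension
import Groth.Agent.ValEtCompLib.Key

/-!
Completions of extensions of valued fields of height one.
-/

set_option autoImplicit false
universe u
open UniformSpace

namespace Groth.Agent.ValEtCompLib

variable {K L Γ₀ Γ₁ : Type*} [Field K] [Field L] [Algebra K L]
  [LinearOrderedCommGroupWithZero Γ₀] [LinearOrderedCommGroupWithZero Γ₁]
  [hK : Valued K Γ₀] [hL : Valued L Γ₁]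

theorem isOpen_val_eq_one {R Γ : Type*} [Field R] [LinearOrderedCommGroupWithZero Γ] [Valued R Γ] :
    IsOpen {x : R | Valued.v x = (1 : Γ)} := by
  rw [isOpen_iff_mem_nhds]
  intro x hx
  have h := Valued.locally_const (show (Valued.v x : Γ) ≠ 0 by rw [hx]; exact one_ne_zero)
  rwa [hx] at h

theorem isClopen_val_le_one {R Γ : Type*} [Field R] [LinearOrderedCommGroupWithZero Γ] [Valued R Γ] :
    IsClopen {x : R | Valued.v x ≤ (1 : Γ)} :=
  Valued.isClopen_valuationSubring R

theorem arch_completion [hK.v.RankOne] (x y : Completion K)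
    (hx : (Valued.v x : Γ₀) ≠ 0) (hy : Valued.v y < (1 : Γ₀)) :
    ∃ n : ℕ, (Valued.v y : Γ₀) ^ n ≤ Valued.v x := by
  obtain ⟨r, hr⟩ := Valued.exists_coe_eq_v x
  obtain ⟨s, hs⟩ := Valued.exists_coe_eq_v y
  change (Valued.v x : Γ₀) = _ at hr
  change (Valued.v y : Γ₀) = _ at hs
  rw [hr] at hx ⊢
  rw [hs] at hy ⊢
  exact arch_of_rankOne hK.v r s hx hy

theorem nonempty_rankOne_completion [hK.v.RankOne] :
    Nonempty (Valued.v : Valuation (Completion K) Γ₀).RankOne := by
  haveI : (Valued.v : Valuation (Completion K) Γ₀).IsNontrivial := ⟨by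
    obtain ⟨x, hx⟩ := Valuation.RankOne.nontrivial hK.v
    exact ⟨x, by rwa [Valued.valuedCompletion_apply]⟩⟩
  rw [Valuation.nonempty_rankOne_iff_mulArchimedean]
  refine ⟨fun X Y hY => ?_⟩
  obtain ⟨a, rfl⟩ := MonoidWithZeroHom.ValueGroup₀.restrict₀_surjective
    (MonoidWithZeroHom.ofClass (Valued.v : Valuation (Completion K) Γ₀)) X
  obtain ⟨b, rfl⟩ := MonoidWithZeroHom.ValueGroup₀.restrict₀_surjective
    (MonoidWithZeroHom.ofClass (Valued.v : Valuation (Completion K) Γ₀)) Y
  simp only [← Valuation.restrict_def] at hY ⊢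
  rw [← map_one (Valued.v : Valuation (Completion K) Γ₀).restrict, Valuation.restrict_lt_iff, map_one] at hY
  by_cases ha : (Valued.v a : Γ₀) = 0
  · exact ⟨0, by rw [← map_pow, Valuation.restrict_le_iff, ha]; exact zero_le⟩
  obtain ⟨n, hn⟩ := arch_completion a⁻¹ b⁻¹ (by rw [map_inv₀]; exact inv_ne_zero ha)
    (by rw [map_inv₀, inv_lt_one₀ (lt_trans zero_lt_one hY)]; exact hY)
  refine ⟨n, ?_⟩
  rw [← map_pow, Valuation.restrict_le_iff, map_pow]
  rw [map_inv₀, map_inv₀, inv_pow, inv_le_inv₀ (pow_pos (lt_trans zero_lt_one hY) n) (zero_lt_iff.2 ha)] at hn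
  exact hn

theorem hasExtension_completion [hK.v.HasExtension hL.v] [Algebra (Completion K) (Completion L)]
    (hcont : Continuous (algebraMap (Completion K) (Completion L)))
    (hcoe : ∀ a : K, algebraMap (Completion K) (Completion L) a = (algebraMap K L a : Completion L)) :
    (Valued.v : Valuation (Completion K) Γ₀).HasExtension (Valued.v : Valuation (Completion L) Γ₁) := by
  refine ⟨Valuation.isEquiv_iff_val_le_one.2 fun {x} => ?_⟩
  show (Valued.v x : Γ₀) ≤ 1 ↔ (Valued.v (algebraMap (Completion K) (Completion L) x) : Γ₁) ≤ 1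
  refine Completion.induction_on x ?_ fun a => ?_
  · have hA := isClopen_val_le_one (R := Completion K) (Γ := Γ₀)
    have hB := (isClopen_val_le_one (R := Completion L) (Γ := Γ₁)).preimage hcont
    have h : {x : Completion K | (Valued.v x : Γ₀) ≤ 1 ↔
        (Valued.v (algebraMap (Completion K) (Completion L) x) : Γ₁) ≤ 1} =
        ({x | (Valued.v x : Γ₀) ≤ 1} ∩ algebraMap (Completion K) (Completion L) ⁻¹' {x | (Valued.v x : Γ₁) ≤ 1}) ∪
        ({x | (Valued.v x : Γ₀) ≤ 1}ᶜ ∩ (algebraMap (Completion K) (Completion L) ⁻¹' {x | (Valued.v x : Γ₁) ≤ 1})ᶜ) := by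
      ext x
      simp only [Set.mem_ofPred_eq, Set.mem_union, Set.mem_inter_iff, Set.mem_compl_iff, Set.mem_preimage]
      tauto
    rw [h]
    exact ((hA.inter hB).union (hA.compl.inter hB.compl)).isClosed
  · rw [hcoe, Valued.valuedCompletion_apply, Valued.valuedCompletion_apply,
      Valuation.HasExtension.val_map_le_one_iff hK.v hL.v]

theorem subalgebra_eq_top [hK.v.RankOne] [Algebra (Completion K) (Completion L)]
    (hcont : Continuous (algebraMap (Completion K) (Completion L)))
    (S : Subalgebra (Completion K) (Completion L)) [FiniteDimensional (Completion K) S]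
    (h : ∀ l : L, (l : Completion L) ∈ S) : S = ⊤ := by
  obtain ⟨inst⟩ := nonempty_rankOne_completion (K := K) (Γ₀ := Γ₀)
  letI := Valued.toNontriviallyNormedField (Completion K) Γ₀
  haveI : ContinuousSMul (Completion K) (Completion L) := continuousSMul_of_algebraMap _ _ hcont
  haveI : FiniteDimensional (Completion K) (Subalgebra.toSubmodule S) := ‹FiniteDimensional (Completion K) S›
  have hcl : IsClosed ((Subalgebra.toSubmodule S : Submodule (Completion K) (Completion L)) : Set (Completion L)) :=
    (Subalgebra.toSubmodule S).closed_of_finiteDimensional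
  rw [eq_top_iff]
  intro y hy
  clear hy
  induction y using Completion.induction_on with
  | hp => exact hcl
  | ih l => exact h l

end Groth.Agent.ValEtCompLib
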